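import Cfsg.Agent.FGS4.HSOut.Orbital22
import Cfsg.Agent.FGS4.SingleBlock.M22Facts
import Cfsg.Agent.TwoGroups.OutMathieu.Index

/-!
# Subgroups of M₂₂ of index at most 100 prime to 11
-/

set_option autoImplicit false
set_option maxRecDepth 20000
set_option linter.style.haveILetI false

namespace Cfsg.Agent.FGS4.HSOut

open Cfsg Cfsg.Agent Cfsg.Agent.Golay Cfsg.Agent.TwoGroups.OutMathieu
open scoped Pointwise
open Cfsg.Agent.FGS4.SingleBlock

/-- The Sylow count inside a subgroup. -/
theorem count_normalizer {G : Type*} [Group G] [Finite G] {p : ℕ} [hp : Fact p.Prime] {K P : Subgroup G}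
    (hP : Nat.card P = p) (hPK : P ≤ K) (h2 : ¬ p ^ 2 ∣ Nat.card K) :
    p ∣ Nat.card (Subgroup.normalizer (P : Set G) ⊓ K : Subgroup G) ∧
      Nat.card (Subgroup.normalizer (P : Set G) ⊓ K : Subgroup G) ∣ Nat.card K ∧
      Nat.card K / Nat.card (Subgroup.normalizer (P : Set G) ⊓ K : Subgroup G) % p = 1 := by
  have hd : p ∣ Nat.card K := hP ▸ Subgroup.card_dvd_of_le hPK
  have hPc : Nat.card (P.subgroupOf K) = p := by
    rw [Nat.card_congr (Subgroup.subgroupOfEquivOfLe hPK).toEquiv, hP]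
  let Q : Sylow p K := Sylow.ofCard (P.subgroupOf K) (by
    rw [hPc]
    conv_lhs => rw [← pow_one p]
    congr 1
    have h1 : 1 ≤ (Nat.card K).factorization p :=
      (hp.out.dvd_iff_one_le_factorization Nat.card_pos.ne').1 hd
    have h3 : ¬ 2 ≤ (Nat.card K).factorization p := fun h =>
      h2 ((hp.out.pow_dvd_iff_le_factorization Nat.card_pos.ne').2 h)
    omega)
  have hN : Nat.card (Subgroup.normalizer ((Q : Subgroup K) : Set K)) =
      Nat.card (Subgroup.normalizer (P : Set G) ⊓ K : Subgroup G) := by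
    rw [show (Q : Subgroup K) = P.subgroupOf K from rfl, ← Subgroup.subgroupOf_normalizer_eq hPK,
      ← Subgroup.inf_subgroupOf_right,
      Nat.card_congr (Subgroup.subgroupOfEquivOfLe inf_le_right).toEquiv]
  refine ⟨hP ▸ Subgroup.card_dvd_of_le (le_inf Subgroup.le_normalizer hPK),
    Subgroup.card_dvd_of_le inf_le_right, ?_⟩
  have h3 := Q.card_eq_index_normalizer
  have h4 := (Subgroup.normalizer ((Q : Subgroup K) : Set K)).index_mul_card
  rw [hN, show (Subgroup.normalizer ((Q : Subgroup K) : Set K)).index = Nat.card (Sylow p K) from h3.symm] at h4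
  rw [← h4, Nat.mul_div_cancel _ Nat.card_pos]
  have := card_sylow_modEq_one p K
  exact Eq.trans this (Nat.one_mod_eq_one.2 hp.out.ne_one)

/-- The order of the Sylow normalisers. -/
theorem normalizer_card {p m n : ℕ} [hpF : Fact p.Prime] (hp : p ∈ [5, 7, 11]) (hm : 443520 = p * m)
    (hpm : ¬ p ∣ m) (harith : ∀ d ∈ (p * (p - 1)).divisors, d ∣ p * m → p * m / d % p = 1 → d = n)
    {P : Subgroup Spor.M22} (hP : Nat.card P = p) :
    Nat.card (Subgroup.normalizer (P : Set Spor.M22)) = n := by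
  have hfac : (Nat.card Spor.M22).factorization p = 1 := by
    rw [M22.M22_card, hm, Nat.factorization_mul hpF.out.ne_zero (fun e => hpm (by rw [e]; exact dvd_zero p)), Finsupp.add_apply,
      hpF.out.factorization_self, Nat.factorization_eq_zero_of_not_dvd hpm]
  let Q : Sylow p Spor.M22 := Sylow.ofCard P (by rw [hP, hfac, pow_one])
  have h1 := (M22.sylow_facts hp hm hpm harith Q).2
  have h2 := (Subgroup.normalizer (P : Set Spor.M22)).index_mul_card
  rw [M22.M22_card, ← h1, show (Subgroup.normalizer (P : Set Spor.M22)).index = Nat.card (Sylow p Spor.M22)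
    from Q.card_eq_index_normalizer.symm] at h2
  exact Nat.eq_of_mul_eq_mul_left Nat.card_pos h2

theorem exists_of_prime {G : Type*} [Group G] [Finite G] {p : ℕ} [Fact p.Prime] (K : Subgroup G)
    (h : p ∣ Nat.card K) : ∃ P : Subgroup G, Nat.card P = p ∧ P ≤ K := by
  obtain ⟨x, hx⟩ := exists_prime_orderOf_dvd_card' (G := K) p h
  exact ⟨Subgroup.zpowers (x : G), by rw [Nat.card_zpowers, Subgroup.orderOf_coe, hx],
    Subgroup.zpowers_le.2 x.2⟩

theorem norm5 : ∀ {P : Subgroup Spor.M22}, Nat.card P = 5 →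
    Nat.card (Subgroup.normalizer (P : Set Spor.M22)) = 20 := fun hP =>
  haveI : Fact (Nat.Prime 5) := ⟨by norm_num⟩
  normalizer_card (m := 88704) (by simp) (by norm_num) (by norm_num)
    (by rw [show (5 * (5 - 1) : ℕ) = 20 from rfl]; decide +kernel) hP

theorem norm7 : ∀ {P : Subgroup Spor.M22}, Nat.card P = 7 →
    Nat.card (Subgroup.normalizer (P : Set Spor.M22)) = 21 := fun hP =>
  haveI : Fact (Nat.Prime 7) := ⟨by norm_num⟩
  normalizer_card (m := 63360) (by simp) (by norm_num) (by norm_num)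
    (by rw [show (7 * (7 - 1) : ℕ) = 42 from rfl]; decide +kernel) hP

theorem norm11 : ∀ {P : Subgroup Spor.M22}, Nat.card P = 11 →
    Nat.card (Subgroup.normalizer (P : Set Spor.M22)) = 55 := fun hP =>
  haveI : Fact (Nat.Prime 11) := ⟨by norm_num⟩
  normalizer_card (m := 40320) (by simp) (by norm_num) (by norm_num)
    (by rw [show (11 * (11 - 1) : ℕ) = 110 from rfl]; decide +kernel) hP

/-- The three Sylow conditions on the order of a subgroup. -/
def sylowOK (m : ℕ) : Bool :=
  [(5, 20), (7, 21), (11, 55)].all fun pn => m % pn.1 != 0 ||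
    (List.range (pn.2 + 1)).any fun d => pn.2 % d == 0 && d % pn.1 == 0 && m % d == 0 && m / d % pn.1 == 1

theorem index_cases (K : Subgroup Spor.M22) (hle : K.index ≤ 100) (h11 : ¬ 11 ∣ K.index) :
    K.index = 1 ∨ K.index = 56 := by
  have harith : ∀ i < 101, 443520 % i = 0 → i % 11 ≠ 0 → sylowOK (443520 / i) = true → i = 1 ∨ i = 56 := by
    decide +kernel
  have hmul := K.index_mul_card
  rw [M22.M22_card] at hmul
  have hK : 443520 / K.index = Nat.card K := by
    rw [← hmul, Nat.mul_div_cancel_left _ (Nat.pos_of_ne_zero Subgroup.index_ne_zero_of_finite)]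
  refine harith _ (by omega) (Nat.mod_eq_zero_of_dvd (Dvd.intro _ hmul)) (by omega) ?_
  rw [hK]
  have key : ∀ p n : ℕ, p.Prime → ¬ p ^ 2 ∣ 443520 →
      (∀ P : Subgroup Spor.M22, Nat.card P = p → Nat.card (Subgroup.normalizer (P : Set Spor.M22)) = n) →
      (Nat.card K % p != 0 || (List.range (n + 1)).any fun d =>
        n % d == 0 && d % p == 0 && Nat.card K % d == 0 && Nat.card K / d % p == 1) = true := by
    intro p n hp h2 hn
    haveI := Fact.mk hp
    rw [Bool.or_eq_true, bne_iff_ne, List.any_eq_true]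
    by_cases hd : p ∣ Nat.card K
    swap
    · exact Or.inl fun e => hd (Nat.dvd_of_mod_eq_zero e)
    obtain ⟨P, hP, hPK⟩ := exists_of_prime K hd
    obtain ⟨a, b, c⟩ := count_normalizer hP hPK fun e => h2 (e.trans (M22.M22_card ▸ K.card_subgroup_dvd_card))
    have hdn := hn P hP ▸ Subgroup.card_dvd_of_le (inf_le_left (b := K) (a := Subgroup.normalizer (P : Set Spor.M22)))
    refine Or.inr ⟨_, List.mem_range.2 (Nat.lt_succ_of_le (Nat.le_of_dvd ?_ hdn)), ?_⟩
    · rw [← hn P hP]; exact Nat.card_pos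
    simp only [Bool.and_eq_true, beq_iff_eq]
    exact ⟨⟨⟨Nat.mod_eq_zero_of_dvd hdn, Nat.mod_eq_zero_of_dvd a⟩, Nat.mod_eq_zero_of_dvd b⟩, c⟩
  simp only [sylowOK, List.all_cons, List.all_nil, Bool.and_true, Bool.and_eq_true]
  exact ⟨key 5 20 (by norm_num) (by norm_num) fun _ => norm5,
    key 7 21 (by norm_num) (by norm_num) fun _ => norm7,
    key 11 55 (by norm_num) (by norm_num) fun _ => norm11⟩

theorem M22_eq : fixList [none, some 0] = Spor.M22 := Subgroup.ext fun g => by
  rw [mem_fixList, M22.mem_M22]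
  simp

/-- The points moved by M₂₂. -/
abbrev S0 : Finset GolayPt := ([none, some 0] : List GolayPt).toFinsetᶜ

theorem S0_card : S0.card = 22 := card_compl_nodup _ (by simp)

theorem S0_stable (g : Spor.M22) : (g : Equiv.Perm GolayPt) • S0 = S0 :=
  fixList_stable _ (M22_eq.symm ▸ g.2)

theorem pstab_M22_index {p : GolayPt} (hp : p ∈ S0) : (pstab Spor.M22 p).index = 22 :=
  M22_eq ▸ pstab_index [none, some 0] (by simp) (by simp) hp

theorem pstab_M22_card {p : GolayPt} (hp : p ∈ S0) : Nat.card (pstab Spor.M22 p) = 20160 := by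
  have := (pstab Spor.M22 p).index_mul_card
  rw [pstab_M22_index hp, M22.M22_card] at this
  omega

/-- In a point stabiliser the normaliser of a Sylow five subgroup has order ten. -/
theorem norm5_point {p : GolayPt} (hp : p ∈ S0) {P : Subgroup Spor.M22} (hP : Nat.card P = 5)
    (hle : P ≤ pstab Spor.M22 p) :
    Nat.card (Subgroup.normalizer (P : Set Spor.M22) ⊓ pstab Spor.M22 p : Subgroup Spor.M22) = 10 := by
  haveI : Fact (Nat.Prime 5) := ⟨by norm_num⟩
  have harith : ∀ d < 21, 20 % d = 0 → d % 5 = 0 → 20160 / d % 5 = 1 → d = 10 := by decide +kernel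
  obtain ⟨a, -, c⟩ := count_normalizer hP hle (by rw [pstab_M22_card hp]; norm_num)
  have hdn := norm5 hP ▸ Subgroup.card_dvd_of_le
    (inf_le_left (b := pstab Spor.M22 p) (a := Subgroup.normalizer (P : Set Spor.M22)))
  rw [pstab_M22_card hp] at c
  exact harith _ (Nat.lt_succ_of_le (Nat.le_of_dvd (by norm_num) hdn)) (Nat.mod_eq_zero_of_dvd hdn)
    (Nat.mod_eq_zero_of_dvd a) c

theorem index_ne_56 (K : Subgroup Spor.M22) : K.index ≠ 56 := by
  classical
  intro hi
  have hKc : Nat.card K = 7920 := by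
    have := K.index_mul_card
    rw [hi, M22.M22_card] at this
    omega
  obtain ⟨a, ha⟩ : S0.Nonempty := Finset.card_pos.1 (by rw [S0_card]; norm_num)
  set O : Finset GolayPt := Finset.univ.filter fun c => ∃ g ∈ K, (g : Equiv.Perm GolayPt) a = c with hO
  have haO : a ∈ O := Finset.mem_filter.2 ⟨Finset.mem_univ _, 1, one_mem _, rfl⟩
  have hOsub : O ⊆ S0 := fun c hc => by
    obtain ⟨-, g, -, rfl⟩ := Finset.mem_filter.1 hc
    rw [← S0_stable g]
    exact Finset.smul_mem_smul_finset ha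
  have hOst : ∀ g ∈ K, (g : Equiv.Perm GolayPt) • O = O := by
    intro g hg
    refine Finset.eq_of_subset_of_card_le (fun c hc => ?_) (Finset.card_smul_finset _ _).ge
    obtain ⟨d, hd, rfl⟩ := Finset.mem_smul_finset.1 hc
    obtain ⟨-, k, hk, rfl⟩ := Finset.mem_filter.1 hd
    exact Finset.mem_filter.2 ⟨Finset.mem_univ _, g * k, mul_mem hg hk, rfl⟩
  have htr3 := fixList_subsets [none, some 0] (by simp) (t := 3) (by simp)
  have h1 := choose_dvd Spor.M22 S0 3 (fun g hg => S0_stable ⟨g, hg⟩)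
    (fun T T' => M22_eq ▸ htr3 T T') K O hOsub hOst
  have h2 := choose_dvd Spor.M22 S0 3 (fun g hg => S0_stable ⟨g, hg⟩)
    (fun T T' => M22_eq ▸ htr3 T T') K (S0 \ O) Finset.sdiff_subset fun g hg => by
      rw [Finset.smul_finset_sdiff, S0_stable g, hOst g hg]
  rw [S0_card, hi] at h1 h2
  rw [Finset.card_sdiff_of_subset hOsub, S0_card] at h2
  have harith : ∀ k < 23, 0 < k → (56 * k.choose 3) % Nat.choose 22 3 = 0 →
      (56 * (22 - k).choose 3) % Nat.choose 22 3 = 0 → k = 11 ∨ k = 22 := by decide +kernel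
  have hOc := harith O.card (Nat.lt_succ_of_le (S0_card ▸ Finset.card_le_card hOsub))
    (Finset.card_pos.2 ⟨a, haO⟩) (Nat.mod_eq_zero_of_dvd h1) (Nat.mod_eq_zero_of_dvd h2)
  set Ka := pstab Spor.M22 a ⊓ K with hKa
  have hcount : O.card * Nat.card Ka = 7920 := by
    have h3 := (MulAction.stabilizer K a).index_mul_card
    rw [MulAction.index_stabilizer, hKc] at h3
    have e1 : MulAction.orbit K a = (O : Set GolayPt) := by
      ext c
      rw [hO, Finset.coe_filter]
      constructor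
      · rintro ⟨k, rfl⟩
        exact ⟨Finset.mem_univ _, k.1, k.2, rfl⟩
      · rintro ⟨-, k, hk, rfl⟩
        exact ⟨⟨k, hk⟩, rfl⟩
    have e2 : Nat.card (MulAction.stabilizer K a) = Nat.card Ka :=
      Nat.card_congr ⟨fun k => ⟨k.1.1, k.2, k.1.2⟩, fun k => ⟨⟨k.1, k.2.2⟩, k.2.1⟩, fun _ => rfl, fun _ => rfl⟩
    rwa [e1, e2, Set.ncard_coe_finset] at h3
  rcases hOc with hOc | hOc <;> rw [hOc] at hcount
  · haveI : Fact (Nat.Prime 5) := ⟨by norm_num⟩
    have hc : Nat.card Ka = 720 := by omega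
    obtain ⟨P, hP, hPK⟩ := exists_of_prime (p := 5) Ka (by rw [hc]; norm_num)
    obtain ⟨a', -, c'⟩ := count_normalizer hP hPK (by rw [hc]; norm_num)
    have hdn := norm5_point ha hP (hPK.trans inf_le_left) ▸ Subgroup.card_dvd_of_le
      (inf_le_inf_left (Subgroup.normalizer (P : Set Spor.M22)) (inf_le_left (b := K) (a := pstab Spor.M22 a)))
    have harith' : ∀ d < 11, 10 % d = 0 → d % 5 = 0 → 720 / d % 5 ≠ 1 := by decide +kernel
    rw [hc] at c'
    exact harith' _ (Nat.lt_succ_of_le (Nat.le_of_dvd (by norm_num) hdn)) (Nat.mod_eq_zero_of_dvd hdn)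
      (Nat.mod_eq_zero_of_dvd a') c'
  · have hc : Nat.card Ka = 360 := by omega
    have hOS : O = S0 := Finset.eq_of_subset_of_card_le hOsub (by rw [hOc, S0_card])
    have hmem : ∀ (k : K) (x : S0), (k.1 : Equiv.Perm GolayPt) x.1 ∈ S0 := fun k x => by
      have h3 := Finset.smul_mem_smul_finset (a := (k.1 : Equiv.Perm GolayPt)) x.2
      rwa [S0_stable k.1] at h3
    letI : MulAction K S0 :=
      { smul := fun k x => ⟨(k.1 : Equiv.Perm GolayPt) x.1, hmem k x⟩
        one_smul := fun _ => rfl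
        mul_smul := fun _ _ _ => rfl }
    have hex : ∀ x : S0, ∃ k : K, k • (⟨a, ha⟩ : S0) = x := fun x => by
      obtain ⟨-, g, hg, e⟩ := Finset.mem_filter.1 (hOS.symm ▸ x.2 : x.1 ∈ O)
      exact ⟨⟨g, hg⟩, Subtype.ext e⟩
    haveI : MulAction.IsPretransitive K S0 := ⟨fun x y => by
      obtain ⟨k, rfl⟩ := hex x
      obtain ⟨l, rfl⟩ := hex y
      exact ⟨l * k⁻¹, by rw [← mul_smul, inv_mul_cancel_right]⟩⟩
    have hl : ([none, some 0, a] : List GolayPt).Nodup := by
      simp [Finset.mem_compl] at ha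
      simp [Ne.symm ha.1, Ne.symm ha.2]
    set G3 := fixList [none, some 0, a] with hG3
    have hG3' : ∀ g : Equiv.Perm GolayPt, g ∈ G3 ↔ ∃ h : g ∈ Spor.M22, g a = a := fun g => by
      rw [hG3, mem_fixList, M22.mem_M22]
      simp [and_assoc]
    have hc3 : Nat.card G3 = 20160 := by
      rw [← pstab_M22_card ha]
      exact Nat.card_congr ⟨fun g => ⟨⟨g.1, ((hG3' _).1 g.2).fst⟩, ((hG3' _).1 g.2).snd⟩,
        fun g => ⟨g.1.1, (hG3' _).2 ⟨g.1.2, g.2⟩⟩, fun _ => rfl, fun _ => rfl⟩
    let X : Subgroup G3 := (Ka.map Spor.M22.subtype).subgroupOf G3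
    have hXle : Ka.map Spor.M22.subtype ≤ G3 := by
      rintro _ ⟨k, hk, rfl⟩
      exact (hG3' _).2 ⟨k.2, hk.1⟩
    have hX : X.index = 56 := by
      have := X.index_mul_card
      rw [Nat.card_congr (Subgroup.subgroupOfEquivOfLe hXle).toEquiv,
        Subgroup.card_map_of_injective (Subgroup.subtype_injective _), hc, hc3] at this
      omega
    have hS3 : ([none, some 0, a] : List GolayPt).toFinsetᶜ.card = 21 := card_compl_nodup _ hl
    have hsizes : ∀ E : Finset S0, (⟨a, ha⟩ : S0) ∉ E →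
        (∀ k : K, k • (⟨a, ha⟩ : S0) = ⟨a, ha⟩ → k • E = E) → E.card ∈ [0, 6, 15, 21] := by
      intro E haE hEs
      set E' := E.map (Function.Embedding.subtype _) with hE'
      have hsub : E' ⊆ ([none, some 0, a] : List GolayPt).toFinsetᶜ := fun x hx => by
        obtain ⟨y, hy, rfl⟩ := Finset.mem_map.1 hx
        have h4 : y.1 ≠ a := fun e => haE ((Subtype.ext e : y = ⟨a, ha⟩) ▸ hy)
        have h5 := y.2
        simp [S0] at h5
        simp [h5.1, h5.2, h4]
      have hst : ∀ g ∈ X, (g : Equiv.Perm GolayPt) • E' = E' := by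
        rintro ⟨g, hg⟩ ⟨k, hk, rfl⟩
        refine Finset.eq_of_subset_of_card_le (fun x hx => ?_) (Finset.card_smul_finset _ _).ge
        obtain ⟨y, hy, rfl⟩ := Finset.mem_smul_finset.1 hx
        obtain ⟨z, hz, rfl⟩ := Finset.mem_map.1 hy
        refine Finset.mem_map.2 ⟨(⟨k, hk.2⟩ : K) • z, ?_, rfl⟩
        rw [← hEs ⟨k, hk.2⟩ (Subtype.ext hk.1)]
        exact Finset.smul_mem_smul_finset hz
      have h3 := choose_dvd G3 _ 2 (fun g hg => fixList_stable _ hg) (fixList_subsets _ hl (by simp))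
        X E' hsub hst
      have h4 := choose_dvd G3 _ 2 (fun g hg => fixList_stable _ hg) (fixList_subsets _ hl (by simp))
        X (([none, some 0, a] : List GolayPt).toFinsetᶜ \ E') Finset.sdiff_subset fun g hg => by
          rw [Finset.smul_finset_sdiff, fixList_stable _ g.2, hst g hg]
      rw [hS3, hX] at h3 h4
      rw [Finset.card_sdiff_of_subset hsub, hS3] at h4
      have harith' : ∀ k < 22, (56 * k.choose 2) % Nat.choose 21 2 = 0 →
          (56 * (21 - k).choose 2) % Nat.choose 21 2 = 0 → k ∈ [0, 6, 15, 21] := by decide +kernel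
      rw [← Finset.card_map]
      exact harith' _ (Nat.lt_succ_of_le (hS3 ▸ Finset.card_le_card hsub)) (Nat.mod_eq_zero_of_dvd h3)
        (Nat.mod_eq_zero_of_dvd h4)
    obtain ⟨q, hq⟩ : ∃ q : S0, q ≠ ⟨a, ha⟩ :=
      Fintype.exists_ne_of_one_lt_card (by rw [Fintype.card_coe, S0_card]; norm_num) _
    set B : Finset S0 := Finset.univ.filter fun y => ∃ k : K, k • (⟨a, ha⟩ : S0) = ⟨a, ha⟩ ∧ k • q = y with hB
    have haB : (⟨a, ha⟩ : S0) ∉ B := fun h => by
      obtain ⟨-, k, hk, e⟩ := Finset.mem_filter.1 h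
      exact hq (MulAction.injective k (e.trans hk.symm))
    have hBs : ∀ k : K, k • (⟨a, ha⟩ : S0) = ⟨a, ha⟩ → k • B = B := fun k hk => by
      refine Finset.eq_of_subset_of_card_le (fun x hx => ?_) (Finset.card_smul_finset _ _).ge
      obtain ⟨y, hy, rfl⟩ := Finset.mem_smul_finset.1 hx
      obtain ⟨-, l, hl', rfl⟩ := Finset.mem_filter.1 hy
      exact Finset.mem_filter.2 ⟨Finset.mem_univ _, k * l, by rw [mul_smul, hl', hk], mul_smul _ _ _⟩
    have hBd : B.card ∣ 360 := by
      have h3 := (MulAction.stabilizer (MulAction.stabilizer K (⟨a, ha⟩ : S0)) q).index_mul_card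
      rw [MulAction.index_stabilizer] at h3
      have e1 : MulAction.orbit (MulAction.stabilizer K (⟨a, ha⟩ : S0)) q = (B : Set S0) := by
        ext y
        rw [hB, Finset.coe_filter]
        constructor
        · rintro ⟨k, rfl⟩
          exact ⟨Finset.mem_univ _, k.1, k.2, rfl⟩
        · rintro ⟨-, k, hk, rfl⟩
          exact ⟨⟨k, hk⟩, rfl⟩
      have e2 : Nat.card (MulAction.stabilizer K (⟨a, ha⟩ : S0)) = 360 := by
        rw [← hc]
        exact Nat.card_congr ⟨fun k => ⟨k.1.1, congrArg Subtype.val k.2, k.1.2⟩,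
          fun k => ⟨⟨k.1, k.2.2⟩, Subtype.ext k.2.1⟩, fun _ => rfl, fun _ => rfl⟩
      rw [e1, Set.ncard_coe_finset, e2] at h3
      exact Dvd.intro _ h3
    have hBpos : 0 < B.card :=
      Finset.card_pos.2 ⟨q, Finset.mem_filter.2 ⟨Finset.mem_univ _, 1, one_smul _ _, one_smul _ _⟩⟩
    have h22 : Fintype.card S0 = 22 := by rw [Fintype.card_coe, S0_card]
    rcases (by simpa using hsizes B haB hBs : B.card = 0 ∨ B.card = 6 ∨ B.card = 15 ∨ B.card = 21) with h | h | h | h
    · omega
    · exact no_suborbit_six h22 _ B haB h hBs hsizes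
    · refine no_suborbit_six h22 _ ((Finset.univ.erase ⟨a, ha⟩) \ B) (by simp) ?_ (fun k hk => ?_) hsizes
      · rw [Finset.card_sdiff_of_subset fun y hy =>
          Finset.mem_erase.2 ⟨ne_of_mem_of_not_mem hy haB, Finset.mem_univ _⟩,
          Finset.card_erase_of_mem (Finset.mem_univ _), Finset.card_univ, h22, h]
      · rw [Finset.smul_finset_sdiff, hBs k hk, Finset.erase_eq, Finset.smul_finset_sdiff,
          Finset.smul_finset_univ, Finset.smul_finset_singleton, hk]
    · rw [h] at hBd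
      norm_num at hBd

/-- A subgroup of index at most 100 and prime to 11 is the whole group. -/
theorem small_index (K : Subgroup Spor.M22) (hle : K.index ≤ 100) (h11 : ¬ 11 ∣ K.index) : K = ⊤ :=
  Subgroup.index_eq_one.1 ((index_cases K hle h11).resolve_right (index_ne_56 K))

end Cfsg.Agent.FGS4.HSOut
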