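import Cfsg.Agent.FGS4.HSOut.M22Index
import Cfsg.Agent.FGS4.RankThree.HS

/-!
# Outer automorphisms of the Higman–Sims group
-/

set_option autoImplicit false
set_option maxRecDepth 20000
set_option linter.style.haveILetI false

namespace Cfsg.Agent.FGS4.HSOut

open Cfsg Cfsg.Agent Cfsg.Agent.Golay Cfsg.Agent.FGS4.RankThree
open scoped Pointwise

/-- The hundred vertices. -/
abbrev Vx := ↥(hsSet hsV hsW)

/-- The simple group inside the automorphism group of the graph. -/
abbrev HG : Subgroup (hsGraph ≃g hsGraph) := toAut.range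

/-- The stabiliser of a vertex. -/
def vstab (x : Vx) : Subgroup HG where
  carrier := {h | h.1 x = x}
  one_mem' := rfl
  mul_mem' {a b} ha hb := by
    show a.1 (b.1 x) = x
    rw [show b.1 x = x from hb, show a.1 x = x from ha]
  inv_mem' {a} ha := by
    show a.1.symm x = x
    conv_lhs => rw [← show a.1 x = x from ha]
    exact a.1.symm_apply_apply x

theorem mem_vstab {x : Vx} {h : HG} : h ∈ vstab x ↔ h.1 x = x := Iff.rfl

/-- The reference vertex. -/
def base : Vx := ⟨hsX, uVec_norm, (hs_cond _).2 (by decide +kernel)⟩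

theorem mul_app (a b : HG) (x : Vx) : (a * b).1 x = a.1 (b.1 x) := rfl

theorem inv_app (a : HG) (x : Vx) : (a⁻¹).1 (a.1 x) = x := a.1.symm_apply_apply x

theorem exists_move (x : Vx) : ∃ h : HG, h.1 base = x := by
  obtain ⟨g, g1, g2, g3⟩ := hs_set_transitive x.2
  exact ⟨⟨toAut ⟨g, g1, g2⟩, _, rfl⟩, Subtype.ext g3⟩

theorem exists_suborbit {y y' : Vx} (hy : y ≠ base) (hy' : y' ≠ base)
    (h : hsGraph.Adj base y ↔ hsGraph.Adj base y') :
    ∃ k : HG, k.1 base = base ∧ k.1 y = y' := by
  obtain ⟨g, g1, g2, g3, g4⟩ := hs_suborbit y.2 y'.2 (fun e => hy (Subtype.ext e))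
    (fun e => hy' (Subtype.ext e)) h
  exact ⟨⟨toAut ⟨g, g1, g2⟩, _, rfl⟩, Subtype.ext g3, Subtype.ext g4⟩

noncomputable instance : Fintype Vx :=
  (Set.finite_of_ncard_pos (by rw [hs_set_ncard]; norm_num)).fintype

noncomputable instance : DecidableRel hsGraph.Adj := Classical.decRel _

theorem Vx_card : Nat.card Vx = 100 := by rw [Nat.card_coe_set_eq, hs_set_ncard]

theorem finite_aut : Finite (hsGraph ≃g hsGraph) :=
  Nat.finite_of_card_ne_zero (by rw [graph_aut_card]; norm_num)

theorem HG_card : Nat.card HG = 44352000 := by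
  rw [← Nat.card_congr (MonoidHom.ofInjective toAut_injective).toEquiv, pair_card]

theorem vstab_card (x : Vx) : Nat.card (vstab x) = 443520 := by
  haveI := finite_aut
  let f : HG → Vx := fun h => h.1 x
  have hsurj : Function.Surjective f := fun y => by
    obtain ⟨a, ha⟩ := exists_move x
    obtain ⟨b, hb⟩ := exists_move y
    refine ⟨b * a⁻¹, ?_⟩
    show (b * a⁻¹).1 x = y
    rw [mul_app, ← ha, inv_app, hb]
  let e : HG ⧸ vstab x ≃ Vx := Equiv.ofBijective
    (Quotient.lift f fun a b hab => by
      have h : (a⁻¹ * b).1 x = x := (QuotientGroup.leftRel_apply.1 hab)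
      show a.1 x = b.1 x
      conv_lhs => rw [← h]
      exact a.1.apply_symm_apply _)
    ⟨fun p q => Quotient.inductionOn₂ p q fun a b hab => Quotient.sound (QuotientGroup.leftRel_apply.2 (by
      show (a⁻¹ * b).1 x = x
      rw [mul_app, ← show a.1 x = b.1 x from hab, inv_app])),
     fun y => by obtain ⟨h, hh⟩ := hsurj y; exact ⟨QuotientGroup.mk h, hh⟩⟩
  have h1 := Subgroup.card_eq_card_quotient_mul_card_subgroup (vstab x)
  rw [HG_card, Nat.card_congr e, Vx_card] at h1
  omega

/-- `M₂₂` as the stabiliser of the reference vertex. -/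
def embM22 : Spor.M22 →* HG :=
  toAut.rangeRestrict.comp (((permHom Spor.M22 fun _ h => (SingleBlock.M22.mem_M22.1 h).1)).codRestrict Pair
    fun σ => ⟨(mono22 (SingleBlock.M22.mem_M22.1 σ.2).1 (SingleBlock.M22.mem_M22.1 σ.2).2.1
      (SingleBlock.M22.mem_M22.1 σ.2).2.2).1, (mono22 (SingleBlock.M22.mem_M22.1 σ.2).1
      (SingleBlock.M22.mem_M22.1 σ.2).2.1 (SingleBlock.M22.mem_M22.1 σ.2).2.2).2.1⟩)

theorem embM22_injective : Function.Injective embM22 := fun a b h =>
  permHom_injective _ _ (congrArg Subtype.val (toAut_injective (congrArg Subtype.val h)))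

theorem embM22_range : embM22.range = vstab base := by
  haveI := finite_aut
  refine Subgroup.eq_of_le_of_card_ge ?_ ?_
  · rintro _ ⟨σ, rfl⟩
    exact Subtype.ext (mono22 (SingleBlock.M22.mem_M22.1 σ.2).1 (SingleBlock.M22.mem_M22.1 σ.2).2.1
      (SingleBlock.M22.mem_M22.1 σ.2).2.2).2.2
  · rw [vstab_card, ← Nat.card_congr (MonoidHom.ofInjective embM22_injective).toEquiv,
      SingleBlock.M22.M22_card]

/-- An automorphism carries a point stabiliser to a point stabiliser. -/
theorem exists_fixed_point (φ : MulAut HG) : ∃ b : Vx, (vstab base).map φ.toMonoidHom = vstab b := by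
  classical
  haveI := finite_aut
  let ψ : Spor.M22 →* HG := φ.toMonoidHom.comp embM22
  letI : MulAction Spor.M22 Vx :=
    { smul := fun g x => (ψ g).1 x
      one_smul := fun x => by show (ψ 1).1 x = x; rw [map_one]; rfl
      mul_smul := fun g h x => by show (ψ (g * h)).1 x = (ψ g).1 ((ψ h).1 x); rw [map_mul]; rfl }
  obtain ⟨b, hb⟩ : ∃ b : Vx, ¬ 11 ∣ (MulAction.orbit Spor.M22 b).ncard := by
    by_contra h
    push Not at h
    have h1 := Nat.card_congr (MulAction.selfEquivSigmaOrbits Spor.M22 Vx)
    rw [Nat.card_sigma, Vx_card] at h1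
    have h2 : 11 ∣ 100 := by
      rw [h1]
      exact Finset.dvd_sum fun q _ => (Nat.card_coe_set_eq _).symm ▸ h _
    norm_num at h2
  have hK : MulAction.stabilizer Spor.M22 b = ⊤ := small_index _ (by
    rw [MulAction.index_stabilizer]
    refine le_trans (Set.ncard_le_ncard (Set.subset_univ _) Set.finite_univ) ?_
    rw [Set.ncard_univ, Vx_card]) (by rwa [MulAction.index_stabilizer])
  refine ⟨b, Subgroup.eq_of_le_of_card_ge ?_ (le_of_eq ?_)⟩
  · rintro _ ⟨h, hh, rfl⟩
    rw [SetLike.mem_coe, ← embM22_range] at hh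
    obtain ⟨g, rfl⟩ := hh
    exact (show g ∈ MulAction.stabilizer Spor.M22 b from hK ▸ Subgroup.mem_top g)
  · rw [Subgroup.card_map_of_injective φ.injective, vstab_card, vstab_card]

theorem near_card (x : Vx) : (Finset.univ.filter fun y => hsGraph.Adj x y).card = 22 := by
  classical
  obtain ⟨h, rfl⟩ := exists_move x
  have h0 : (Finset.univ.filter fun y => hsGraph.Adj base y).card = 22 := by
    rw [← hs_near_ncard, ← Set.ncard_coe_finset, ← Set.ncard_image_of_injective _ Subtype.coe_injective]
    congr 1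
    ext y
    simp only [Finset.coe_filter, Finset.mem_univ, true_and]
    constructor
    · rintro ⟨z, hz, rfl⟩
      exact ⟨z.2, hz⟩
    · rintro ⟨hy, hd⟩
      exact ⟨⟨y, hy⟩, hd, rfl⟩
  rw [← h0]
  refine Finset.card_bij (fun y _ => h.1.symm y) (fun y hy => ?_)
    (fun a _ b _ e => h.1.symm.injective e) (fun y hy => ⟨h.1 y, ?_, h.1.symm_apply_apply y⟩)
  · rw [Finset.mem_filter] at hy ⊢
    refine ⟨Finset.mem_univ _, ?_⟩
    rw [← h.1.map_rel_iff, h.1.apply_symm_apply]
    exact hy.2
  · rw [Finset.mem_filter] at hy ⊢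
    exact ⟨Finset.mem_univ _, h.1.map_rel_iff.2 hy.2⟩

/-- Every automorphism is conjugation by an automorphism of the graph. -/
theorem exists_aut (φ : MulAut HG) :
    ∃ σ : hsGraph ≃g hsGraph, ∀ h : HG, ((φ h : HG) : hsGraph ≃g hsGraph) = σ * h * σ⁻¹ := by
  classical
  obtain ⟨b, hb⟩ := exists_fixed_point φ
  have hst : ∀ h : HG, h.1 base = base ↔ (φ h).1 b = b := fun h => by
    rw [← mem_vstab, ← mem_vstab, ← hb]
    exact (Subgroup.mem_map_iff_mem (f := φ.toMonoidHom) φ.injective).symm
  choose t ht using exists_move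
  let f : Vx → Vx := fun x => (φ (t x)).1 b
  have hf : ∀ h : HG, f (h.1 base) = (φ h).1 b := fun h => by
    have h1 := (hst ((t (h.1 base))⁻¹ * h)).1 (by
      rw [mul_app]
      conv_lhs => arg 2; rw [← ht (h.1 base)]
      exact inv_app _ _)
    rw [map_mul, map_inv, mul_app] at h1
    show (φ (t (h.1 base))).1 b = (φ h).1 b
    conv_lhs => rw [← h1]
    exact (φ (t (h.1 base))).1.apply_symm_apply _
  have hinj : Function.Injective f := fun x y e => by
    have h1 := (hst ((t x)⁻¹ * t y)).2 (by
      rw [map_mul, map_inv, mul_app, ← show (φ (t x)).1 b = (φ (t y)).1 b from e]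
      exact inv_app _ _)
    rw [mul_app, ht] at h1
    rw [← ht x]
    conv_lhs => rw [← h1]
    exact (t x).1.apply_symm_apply y
  have hequiv : ∀ (h : HG) (x : Vx), f (h.1 x) = (φ h).1 (f x) := fun h x => by
    obtain ⟨k, rfl⟩ := exists_move x
    rw [← mul_app, hf, hf, map_mul, mul_app]
  have hbase : f base = b := by
    have := hf 1
    rwa [map_one] at this
  have hbij : Function.Bijective f := Finite.injective_iff_bijective.1 hinj
  have hadj0 : ∀ y, hsGraph.Adj b (f y) ↔ hsGraph.Adj base y := by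
    set P : Finset Vx := Finset.univ.filter fun y => hsGraph.Adj b (f y)
    set N : Finset Vx := Finset.univ.filter fun y => hsGraph.Adj base y
    have hP : P.card = 22 := by
      rw [← near_card b]
      refine Finset.card_bij (fun y _ => f y) (fun y hy => ?_) (fun a _ c _ e => hinj e) fun z hz => ?_
      · simpa [P] using hy
      · obtain ⟨y, rfl⟩ := hbij.2 z
        exact ⟨y, by simpa [P] using hz, rfl⟩
    have hconst : ∀ y y', y ≠ base → y' ≠ base → (hsGraph.Adj base y ↔ hsGraph.Adj base y') →
        y ∈ P → y' ∈ P := by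
      intro y y' hy hy' h hyP
      obtain ⟨k, k1, k2⟩ := exists_suborbit hy hy' h
      rw [Finset.mem_filter] at hyP ⊢
      refine ⟨Finset.mem_univ _, ?_⟩
      rw [← k2, hequiv, ← (hst k).1 k1]
      exact (φ k).1.map_rel_iff.2 hyP.2
    have hbP : base ∉ P := by simp [P, hbase]
    have hbN : base ∉ N := by simp [N]
    have hN : N.card = 22 := near_card base
    suffices e : P = N by
      intro y
      simpa [P, N] using Finset.ext_iff.1 e y
    by_cases hex : ∃ y ∈ P, y ∈ N
    · obtain ⟨y, hyP, hyN⟩ := hex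
      refine (Finset.eq_of_subset_of_card_le (fun z hz => ?_) (by omega)).symm
      exact hconst y z (ne_of_mem_of_not_mem hyN hbN) (ne_of_mem_of_not_mem hz hbN)
        (iff_of_true (Finset.mem_filter.1 hyN).2 (Finset.mem_filter.1 hz).2) hyP
    · exfalso
      push Not at hex
      obtain ⟨y, hy⟩ : P.Nonempty := Finset.card_pos.1 (by omega)
      have hsub : (Finset.univ.erase base) \ N ⊆ P := fun z hz => by
        rw [Finset.mem_sdiff, Finset.mem_erase] at hz
        exact hconst y z (ne_of_mem_of_not_mem hy hbP) hz.1.1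
          (iff_of_false (by simpa [N] using hex y hy) (by simpa [N] using hz.2)) hy
      have := Finset.card_le_card hsub
      rw [Finset.card_sdiff_of_subset fun z hz =>
          Finset.mem_erase.2 ⟨ne_of_mem_of_not_mem hz hbN, Finset.mem_univ _⟩,
        Finset.card_erase_of_mem (Finset.mem_univ _), Finset.card_univ, ← Nat.card_eq_fintype_card,
        Vx_card, hN] at this
      omega
  let σ : hsGraph ≃g hsGraph :=
    { toEquiv := Equiv.ofBijective f hbij
      map_rel_iff' := fun {x y} => by
        show hsGraph.Adj (f x) (f y) ↔ hsGraph.Adj x y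
        obtain ⟨k, rfl⟩ := exists_move x
        obtain ⟨z, rfl⟩ : ∃ z, k.1 z = y := ⟨k.1.symm y, k.1.apply_symm_apply y⟩
        rw [hequiv, hequiv, hbase]
        exact (φ k).1.map_rel_iff.trans ((hadj0 z).trans k.1.map_rel_iff.symm) }
  refine ⟨σ, fun h => RelIso.ext fun x => ?_⟩
  show (φ h).1 x = f (h.1 (σ.symm x))
  rw [hequiv, show f (σ.symm x) = x from σ.apply_symm_apply x]

theorem commute_eq_one {σ : hsGraph ≃g hsGraph} (hc : ∀ h : HG, σ * h.1 = h.1 * σ) : σ = 1 := by
  classical
  have key : ∀ (h : HG) (x : Vx), σ (h.1 x) = h.1 (σ x) := fun h x => DFunLike.congr_fun (hc h) x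
  have hb : σ base = base := by
    by_contra hne
    have hall : ∀ y, y ≠ base → (hsGraph.Adj base (σ base) ↔ hsGraph.Adj base y) → y = σ base := by
      intro y hy h
      obtain ⟨k, k1, k2⟩ := exists_suborbit hne hy h
      rw [← key, k1] at k2
      exact k2.symm
    by_cases had : hsGraph.Adj base (σ base)
    · have : (Finset.univ.filter fun y => hsGraph.Adj base y) ⊆ {σ base} := fun y hy => by
        rw [Finset.mem_filter] at hy
        exact Finset.mem_singleton.2 (hall y (fun e => hsGraph.irrefl (e ▸ hy.2)) (iff_of_true had hy.2))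
      have := Finset.card_le_card this
      rw [near_card, Finset.card_singleton] at this
      omega
    · have : Finset.univ ⊆ (Finset.univ.filter fun y => hsGraph.Adj base y) ∪ {σ base, base} := fun y _ => by
        by_cases hy : y = base
        · simp [hy]
        by_cases h : hsGraph.Adj base y
        · simp [h]
        · simp [hall y hy (iff_of_false had h)]
      have h1 := (Finset.card_le_card this).trans (Finset.card_union_le _ _)
      rw [Finset.card_univ, ← Nat.card_eq_fintype_card, Vx_card, near_card] at h1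
      have h2 : ({σ base, base} : Finset Vx).card ≤ 2 := Finset.card_le_two
      omega
  refine RelIso.ext fun x => ?_
  obtain ⟨k, rfl⟩ := exists_move x
  rw [key, hb]
  rfl

theorem card_out_HG : Nat.card (Cfsg.Out HG) = 2 := by
  haveI := finite_aut
  have hidx : HG.index = 2 := by
    have h := HG.card_mul_index
    rw [HG_card, graph_aut_card] at h
    omega
  haveI : HG.Normal := Subgroup.normal_of_index_eq_two hidx
  let Ψ := (QuotientGroup.mk' (Inn HG)).comp
    (MulAut.conjNormal : (hsGraph ≃g hsGraph) →* MulAut HG)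
  have hsurj : Function.Surjective Ψ := by
    intro q
    obtain ⟨φ, rfl⟩ := QuotientGroup.mk'_surjective (Inn HG) q
    obtain ⟨σ, hσ⟩ := exists_aut φ
    exact ⟨σ, congrArg (QuotientGroup.mk' (Inn HG)) (MulEquiv.ext fun h => Subtype.ext
      ((MulAut.conjNormal_apply σ h).trans (hσ h).symm))⟩
  have hker : Ψ.ker = HG := by
    ext σ
    rw [MonoidHom.mem_ker]
    show QuotientGroup.mk' (Inn HG) (MulAut.conjNormal σ) = 1 ↔ _
    rw [QuotientGroup.mk'_apply, QuotientGroup.eq_one_iff, MonoidHom.mem_range]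
    constructor
    · rintro ⟨a, ha⟩
      have e : a.1⁻¹ * σ = 1 := commute_eq_one fun h => by
        have e := congrArg (fun u : MulAut HG => ((u h : HG) : hsGraph ≃g hsGraph)) ha
        simp only [MulAut.conj_apply, MulAut.conjNormal_apply, Subgroup.coe_mul, Subgroup.coe_inv] at e
        calc a.1⁻¹ * σ * h.1 = a.1⁻¹ * (σ * h.1 * σ⁻¹) * σ := by group
          _ = a.1⁻¹ * (a.1 * h.1 * a.1⁻¹) * σ := by rw [e]
          _ = h.1 * (a.1⁻¹ * σ) := by group
      rw [inv_mul_eq_one] at e
      exact e ▸ a.2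
    · intro hσ
      exact ⟨⟨σ, hσ⟩, MulEquiv.ext fun h => Subtype.ext (by
        simp [MulAut.conjNormal_apply, MulAut.conj_apply])⟩
  have h2 : Nat.card (Cfsg.Out HG) = Ψ.ker.index := by
    rw [Subgroup.index_ker, MonoidHom.range_eq_top.2 hsurj, Subgroup.card_top]
  rw [h2, hker, hidx]

end Cfsg.Agent.FGS4.HSOut
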