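import Mathlib

/-!
# No orbital graph of valency six in degree 22 with suborbits 1, 6, 15
-/

set_option autoImplicit false
set_option maxRecDepth 20000

namespace Cfsg.Agent.FGS4.HSOut

open scoped Pointwise
open Finset

theorem no_suborbit_six {K V : Type*} [Group K] [Finite K] [MulAction K V] [Fintype V] [DecidableEq V]
    [MulAction.IsPretransitive K V] (hV : Fintype.card V = 22) (a : V) (D : Finset V)
    (haD : a ∉ D) (hD : D.card = 6) (hDs : ∀ k : K, k • a = a → k • D = D)
    (hst : ∀ E : Finset V, a ∉ E → (∀ k : K, k • a = a → k • E = E) → E.card ∈ [0, 6, 15, 21]) : False := by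
  classical
  choose g hg using fun x : V => MulAction.exists_smul_eq K a x
  set N₀ : Finset V := insert a D with hN₀
  let N : V → Finset V := fun x => g x • N₀
  have hNeq : ∀ (x : V) (k : K), k • a = x → k • N₀ = N x := by
    intro x k hk
    have h1 : ((g x)⁻¹ * k) • a = a := by rw [mul_smul, hk, inv_smul_eq_iff, hg]
    have h2 : ((g x)⁻¹ * k) • N₀ = N₀ := by
      rw [hN₀, Finset.smul_finset_insert, h1, hDs _ h1]
    calc k • N₀ = g x • (((g x)⁻¹ * k) • N₀) := by rw [← mul_smul, mul_inv_cancel_left]
      _ = N x := by rw [h2]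
  have hNk : ∀ (k : K) (x : V), N (k • x) = k • N x := fun k x => by
    rw [← hNeq (k • x) (k * g x) (by rw [mul_smul, hg]), mul_smul]
  have hNa : N a = N₀ := by rw [← hNeq a 1 (one_smul _ _), one_smul]
  have hcard : ∀ x, (N x).card = 7 := fun x => by
    rw [Finset.card_smul_finset, hN₀, Finset.card_insert_of_notMem haD, hD]
  have hself : ∀ x, x ∈ N x := fun x => by
    have := Finset.smul_mem_smul_finset (a := g x) (Finset.mem_insert_self a D)
    rwa [hg] at this
  let I : V → Finset V := fun x => univ.filter fun y => x ∈ N y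
  have hIk : ∀ (k : K) (x : V), I (k • x) = k • I x := fun k x => by
    ext y
    rw [← smul_inv_smul k y, Finset.smul_mem_smul_finset_iff, mem_filter, mem_filter, hNk,
      Finset.smul_mem_smul_finset_iff]
    simp
  have hIa : (I a).card = 7 := by
    have hconst : ∀ x, (I x).card = (I a).card := fun x => by
      rw [← hg x, hIk, Finset.card_smul_finset]
    have hsum : ∑ x, (I x).card = ∑ y, (N y).card := by
      simp only [I, Finset.card_filter]
      rw [Finset.sum_comm]
      refine Finset.sum_congr rfl fun y _ => ?_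
      rw [← Finset.card_filter]
      congr 1
      ext x
      simp
    rw [Finset.sum_congr rfl fun x _ => hconst x, Finset.sum_congr rfl fun y _ => hcard y,
      Finset.sum_const, Finset.sum_const, Finset.card_univ, hV, smul_eq_mul, smul_eq_mul] at hsum
    omega
  have hfixE : ∀ E : Finset V, (∀ k : K, k • a = a → ∀ y ∈ E, k • y ∈ E) →
      ∀ k : K, k • a = a → k • E = E := by
    intro E hE k hk
    refine Finset.eq_of_subset_of_card_le (fun y hy => ?_) (Finset.card_smul_finset _ _).ge
    obtain ⟨z, hz, rfl⟩ := Finset.mem_smul_finset.1 hy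
    exact hE k hk z hz
  have hIa' : (I a).erase a = D := by
    have hs : ∀ k : K, k • a = a → k • (I a).erase a = (I a).erase a := by
      refine hfixE _ fun k hk y hy => ?_
      rw [Finset.mem_erase] at hy ⊢
      exact ⟨fun h => hy.1 (MulAction.injective k (h.trans hk.symm)), by
        have := Finset.smul_mem_smul_finset (a := k) hy.2
        rwa [← hIk, hk] at this⟩
    have hc : ((I a).erase a).card = 6 := by
      rw [Finset.card_erase_of_mem (show a ∈ I a from mem_filter.2 ⟨mem_univ _, hself a⟩)]; omega
    have h1 := hst ((I a).erase a \ D) (by simp) fun k hk => by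
      rw [Finset.smul_finset_sdiff, hs k hk, hDs k hk]
    have h2 := hst ((I a).erase a ∪ D) (by simp [haD]) fun k hk => by
      rw [Finset.smul_finset_union, hs k hk, hDs k hk]
    have h3 : ((I a).erase a ∪ D).card = ((I a).erase a \ D).card + D.card := (Finset.card_sdiff_add_card _ _).symm
    have h4 : ((I a).erase a \ D).card ≤ 6 := hc ▸ Finset.card_le_card Finset.sdiff_subset
    simp only [List.mem_cons, List.not_mem_nil, or_false] at h1 h2
    have h5 : ((I a).erase a \ D).card = 0 := by omega
    exact Finset.eq_of_subset_of_card_le (Finset.sdiff_eq_empty_iff_subset.1 (Finset.card_eq_zero.1 h5))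
      (by omega)
  have hsymm : ∀ x y, y ∈ N x ↔ x ∈ N y := by
    intro x y
    have key : ∀ z, z ∈ N a ↔ a ∈ N z := fun z => by
      have h1 : a ∈ N z ↔ z ∈ I a := by simp [I]
      rw [h1, hNa, hN₀, Finset.mem_insert, ← hIa', Finset.mem_erase]
      constructor
      · rintro (rfl | h)
        · exact mem_filter.2 ⟨mem_univ _, hself _⟩
        · exact h.2
      · intro h
        by_cases hz : z = a
        · exact Or.inl hz
        · exact Or.inr ⟨hz, h⟩
    have h := key ((g x)⁻¹ • y)
    rwa [← Finset.smul_mem_smul_finset_iff (g x), ← hNk, hg, smul_inv_smul,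
      ← Finset.smul_mem_smul_finset_iff (g x) (b := a), ← hNk, smul_inv_smul, hg] at h
  let c : V → V → ℕ := fun x y => (N x ∩ N y).card
  have hck : ∀ (k : K) x y, c (k • x) (k • y) = c x y := fun k x y => by
    simp only [c, hNk, ← Finset.smul_finset_inter, Finset.card_smul_finset]
  set F : Finset V := (univ.erase a) \ D with hF
  have hFc : F.card = 15 := by
    rw [hF, Finset.card_sdiff_of_subset (fun y hy => Finset.mem_erase.2 ⟨ne_of_mem_of_not_mem hy haD, mem_univ _⟩),
      Finset.card_erase_of_mem (mem_univ _), Finset.card_univ, hV, hD]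
  have hFs : ∀ k : K, k • a = a → k • F = F := hfixE _ fun k hk y hy => by
    simp only [hF, Finset.mem_sdiff, Finset.mem_erase, mem_univ, and_true] at hy ⊢
    refine ⟨fun h => hy.1 (MulAction.injective k (h.trans hk.symm)), fun h => hy.2 ?_⟩
    rwa [← hDs k hk, Finset.smul_mem_smul_finset_iff] at h
  have hlev : ∀ (E : Finset V), a ∉ E → (∀ k : K, k • a = a → k • E = E) → E.card ∈ [6, 15] →
      ∃ l, ∀ y ∈ E, c a y = l := by
    intro E haE hEs hEc
    obtain ⟨y₀, hy₀⟩ : E.Nonempty := by
      rw [← Finset.card_pos]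
      simp only [List.mem_cons, List.not_mem_nil, or_false] at hEc
      omega
    refine ⟨c a y₀, fun y hy => ?_⟩
    set L := E.filter fun z => c a z = c a y₀ with hL
    have hLs : ∀ k : K, k • a = a → k • L = L := hfixE _ fun k hk z hz => by
      rw [hL, mem_filter] at hz ⊢
      refine ⟨by rw [← hEs k hk]; exact Finset.smul_mem_smul_finset hz.1, ?_⟩
      rw [← hz.2]
      conv_lhs => rw [← hk]
      exact hck k a z
    have h1 := hst L (fun h => haE (mem_filter.1 h).1) hLs
    have h2 := hst (E \ L) (fun h => haE (Finset.mem_sdiff.1 h).1) fun k hk => by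
      rw [Finset.smul_finset_sdiff, hEs k hk, hLs k hk]
    have h3 : (E \ L).card + L.card = E.card :=
      Finset.card_sdiff_add_card_eq_card (Finset.filter_subset _ _)
    have h4 : 0 < L.card := Finset.card_pos.2 ⟨y₀, mem_filter.2 ⟨hy₀, rfl⟩⟩
    simp only [List.mem_cons, List.not_mem_nil, or_false] at h1 h2 hEc
    have h5 : L.card = E.card := by omega
    rw [← Finset.eq_of_subset_of_card_le (Finset.filter_subset _ _) h5.ge] at hy
    exact (mem_filter.1 hy).2
  obtain ⟨l, hl⟩ := hlev D haD hDs (by simp [hD])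
  obtain ⟨m, hm⟩ := hlev F (by simp [hF]) hFs (by simp [hFc])
  have hsum : ∑ y, c a y = 49 := by
    have : ∀ y, c a y = ∑ z ∈ N a, if z ∈ N y then 1 else 0 := fun y => by
      rw [← Finset.card_filter]
      exact congrArg Finset.card Finset.filter_mem_eq_inter.symm
    rw [Finset.sum_congr rfl fun y _ => this y, Finset.sum_comm,
      Finset.sum_congr rfl fun z _ => ((Finset.card_filter (fun y => z ∈ N y) univ).symm.trans
        ((congrArg Finset.card (Finset.ext fun y => by simp [hsymm])).trans (hcard z))),
      Finset.sum_const, hcard, smul_eq_mul]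
  have hsplit : ∑ y, c a y = 7 + 6 * l + 15 * m := by
    rw [← Finset.add_sum_erase _ _ (mem_univ a), ← Finset.sum_sdiff
      (fun y hy => Finset.mem_erase.2 ⟨ne_of_mem_of_not_mem hy haD, mem_univ _⟩ : D ⊆ univ.erase a),
      Finset.sum_congr rfl hl, Finset.sum_congr rfl hm, Finset.sum_const, Finset.sum_const, hFc, hD]
    simp only [c, Finset.inter_self, hcard, smul_eq_mul]
    omega
  have hlm : l = 2 ∧ m = 2 ∨ l = 7 ∧ m = 0 := by omega
  have hc : ∀ x y, c x y = if x = y then 7 else if y ∈ N x then l else m := by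
    intro x y
    obtain ⟨k, rfl⟩ : ∃ k : K, k • a = x := ⟨g x, hg x⟩
    obtain ⟨z, rfl⟩ : ∃ z, k • z = y := ⟨k⁻¹ • y, smul_inv_smul k y⟩
    rw [hck, hNk, hNa]
    simp only [smul_left_cancel_iff, Finset.smul_mem_smul_finset_iff]
    by_cases hz : a = z
    · rw [if_pos hz, ← hz]
      simp only [c, Finset.inter_self, hcard]
    rw [if_neg hz]
    by_cases hzD : z ∈ D
    · rw [if_pos (Finset.mem_insert_of_mem hzD), hl z hzD]
    · rw [if_neg (by simp [hN₀, hzD, Ne.symm hz]), hm z (by simp [hF, hzD, Ne.symm hz])]
  haveI : Fact (Nat.Prime 7) := ⟨by norm_num⟩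
  let M : Matrix V V (ZMod 7) := Matrix.of fun x y => if y ∈ N x then 1 else 0
  have hMM : ∀ x y, (M * M) x y = (c x y : ZMod 7) := fun x y => by
    simp only [M, Matrix.mul_apply, Matrix.of_apply]
    rw [Finset.sum_congr rfl fun z _ => (ite_zero_mul_ite_zero _ _ (1 : ZMod 7) 1).trans
      (if_congr (and_congr_right fun _ => hsymm z y) (mul_one 1) rfl), Finset.sum_boole]
    congr 1
    exact congrArg Finset.card (Finset.ext fun z => by simp)
  let J : Matrix V V (ZMod 7) := Matrix.of fun _ _ => 1
  have hMJ : M * J = 0 := by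
    ext x y
    simp only [M, J, Matrix.mul_apply, Matrix.of_apply, mul_one, Matrix.zero_apply]
    rw [Finset.sum_boole, show univ.filter (fun z => z ∈ N x) = N x from Finset.ext fun z => by simp, hcard]
    rfl
  have htr : Matrix.trace M = 1 := by
    simp only [Matrix.trace, Matrix.diag, M, Matrix.of_apply, hself, if_true, Finset.sum_const,
      Finset.card_univ, hV]
    rfl
  have htp := ZMod.trace_pow_card M
  rw [htr, one_pow] at htp
  rcases hlm with ⟨rfl, rfl⟩ | ⟨rfl, rfl⟩
  · have h2 : M * M = (5 : ZMod 7) • (1 : Matrix V V (ZMod 7)) + (2 : ZMod 7) • J := by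
      ext x y
      rw [hMM, hc, ite_self]
      simp only [J, Matrix.add_apply, Matrix.smul_apply, Matrix.one_apply, Matrix.of_apply, smul_eq_mul, mul_one]
      by_cases hxy : x = y <;> simp [hxy] <;> rfl
    have h3 : M * (M * M) = (5 : ZMod 7) • M := by
      rw [h2, mul_add, Matrix.mul_smul, Matrix.mul_smul, hMJ, mul_one, smul_zero, add_zero]
    have h7 : M ^ 7 = (125 : ZMod 7) • M := by
      calc M ^ 7 = M * (M * M) * (M * (M * M)) * M := by noncomm_ring
        _ = (25 : ZMod 7) • (M * (M * M)) := by
            rw [h3, Matrix.smul_mul, Matrix.mul_smul, Matrix.smul_mul, Matrix.smul_mul, smul_smul,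
              mul_assoc M M M, h3]
            norm_num
        _ = (125 : ZMod 7) • M := by rw [h3, smul_smul]; norm_num
    rw [h7, Matrix.trace_smul, htr, smul_eq_mul, mul_one] at htp
    exact absurd (congrArg ZMod.val htp) (by rw [show ((125 : ZMod 7)).val = 6 from rfl, ZMod.val_one]; omega)
  · have h2 : M * M = 0 := by
      ext x y
      rw [hMM, hc, Matrix.zero_apply]
      split_ifs <;> rfl
    rw [show M ^ 7 = M * M * M ^ 5 by rw [← pow_two, ← pow_add], h2, zero_mul, Matrix.trace_zero] at htp
    exact zero_ne_one htp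

end Cfsg.Agent.FGS4.HSOut
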